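import Groth.Agent.AlgSpLib.CartierDesc

/-!
# Descent of effective Cartier ideals along universally open flat surjective maps
-/

set_option backward.isDefEq.respectTransparency false
set_option backward.isDefEq.respectTransparency.types false

universe u

open CategoryTheory AlgebraicGeometry Topology
open Groth.Agent.AlgSpLib.CartierDesc

namespace Groth.Agent.H9CartDesc

/-- Effective Cartier ideals descend along flat open surjective maps. -/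
theorem isEffCartier_of_comap {X Y : Scheme.{u}} (f : X ⟶ Y) [Flat f] [UniversallyOpen f]
    [Surjective f] {I : Y.IdealSheafData} (h : BlowUp.IsEffCartierIdeal (I.comap f)) :
    BlowUp.IsEffCartierIdeal I := by
  intro y
  obtain ⟨x, rfl⟩ := f.surjective y
  obtain ⟨W, hxW, a', ha', hW⟩ := h x
  obtain ⟨_, ⟨U, hU, rfl⟩, hyU, -⟩ := Y.isBasis_affineOpens.exists_subset_of_mem_open
    (Set.mem_univ (f x)) isOpen_univ
  obtain ⟨W₁, hW₁, hxW₁, hW₁le⟩ : ∃ W₁ : X.Opens, IsAffineOpen W₁ ∧ x ∈ W₁ ∧ W₁ ≤ W.1 ⊓ f ⁻¹ᵁ U := by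
    obtain ⟨_, ⟨W₁, hW₁, rfl⟩, hx, hle⟩ := X.isBasis_affineOpens.exists_subset_of_mem_open
      (show x ∈ ((W.1 ⊓ f ⁻¹ᵁ U : X.Opens) : Set X) from ⟨hxW, hyU⟩) (W.1 ⊓ f ⁻¹ᵁ U).isOpen
    exact ⟨W₁, hW₁, hx, hle⟩
  obtain ⟨s, hs, hfx⟩ := hU.exists_basicOpen_le
    (V := ⟨f '' (W₁ : Set X), f.isOpenMap _ W₁.isOpen⟩) ⟨f x, ⟨x, hxW₁, rfl⟩⟩ hyU
  let U₂ : Y.affineOpens := ⟨Y.basicOpen s, hU.basicOpen s⟩
  let e₀ : W₁ ≤ f ⁻¹ᵁ U := hW₁le.trans inf_le_right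
  let W₂ : X.affineOpens := ⟨X.basicOpen (f.appLE U W₁ e₀ s), hW₁.basicOpen _⟩
  have hW₂ : W₂.1 = W₁ ⊓ f ⁻¹ᵁ Y.basicOpen s := Scheme.basicOpen_appLE f W₁ U e₀ s
  have e : W₂.1 ≤ f ⁻¹ᵁ U₂.1 := hW₂.le.trans inf_le_right
  have hW₂W : W₂.1 ≤ W.1 := (hW₂.le.trans inf_le_left).trans (hW₁le.trans inf_le_left)
  have hff := appLE_faithfullyFlat f U₂.2 W₂.2 e (fun z hz => by
    obtain ⟨w, hw, rfl⟩ := hs hz
    exact ⟨w, by rw [SetLike.mem_coe, hW₂]; exact ⟨hw, hz⟩, rfl⟩)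
  algebraize [(f.appLE U₂.1 W₂.1 e).hom]
  let a₂ := X.presheaf.map (homOfLE hW₂W).op a'
  have ha₂ : a₂ ∈ nonZeroDivisors Γ(X, W₂.1) := by
    have hfl : ((𝟙 X : X ⟶ X).appLE W.1 W₂.1 hW₂W).hom.Flat :=
      HasRingHomProperty.appLE (P := @Flat) (𝟙 X) inferInstance W W₂ hW₂W
    rw [show (𝟙 X : X ⟶ X).appLE W.1 W₂.1 hW₂W = X.presheaf.map (homOfLE hW₂W).op by
      simp [Scheme.Hom.appLE]] at hfl
    algebraize [(X.presheaf.map (homOfLE hW₂W).op).hom]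
    refine mem_nonZeroDivisors_iff_right.2 fun z hz => ?_
    exact Module.Flat.isSMulRegular_of_nonZeroDivisors (M := Γ(X, W₂.1)) ha'
      (by simp only [Algebra.smul_def]; rw [mul_zero, mul_comm]; exact hz)
  have hI : (I.ideal U₂).map (algebraMap Γ(Y, U₂.1) Γ(X, W₂.1)) = Ideal.span {a₂} := by
    show (I.ideal U₂).map (f.appLE U₂.1 W₂.1 e).hom = _
    rw [← ModPairLib.ideal_comap I f U₂ W₂ e, ← (I.comap f).map_ideal (U := W₂) (V := W) hW₂W, hW,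
      Ideal.map_span, Set.image_singleton]
    rfl
  obtain ⟨r, hr, a, haI, hra, hxa⟩ := exists_generator (I.ideal U₂) ha₂ hI
    (U₂.2.primeIdealOf ⟨f x, hfx⟩).asIdeal
  have : IsLocalization.Away r Γ(Y, Y.basicOpen r) := U₂.2.isLocalization_basicOpen r
  have hbo : Y.basicOpen r ≤ U₂.1 := Y.basicOpen_le r
  refine ⟨Y.affineBasicOpen r, ?_,
    (algebraMap Γ(Y, U₂.1) Γ(Y, Y.basicOpen r) a : Γ(Y, Y.basicOpen r)), ?_, ?_⟩
  · have h1 : U₂.2.primeIdealOf ⟨f x, hfx⟩ ∈ U₂.2.fromSpec ⁻¹ᵁ Y.basicOpen r := by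
      rw [U₂.2.fromSpec_preimage_basicOpen]
      exact hr
    have h2 : U₂.2.fromSpec (U₂.2.primeIdealOf ⟨f x, hfx⟩) ∈ Y.basicOpen r := h1
    rwa [U₂.2.fromSpec_primeIdealOf] at h2
  · show _ ∈ nonZeroDivisors Γ(Y, Y.basicOpen r)
    refine mem_nonZeroDivisors_iff_right.2 fun z hz => ?_
    obtain ⟨⟨x₀, m⟩, hz'⟩ := IsLocalization.surj (Submonoid.powers r) z
    obtain ⟨c, hc⟩ := (IsLocalization.map_eq_zero_iff (R := Γ(Y, U₂.1)) (Submonoid.powers r) Γ(Y, Y.basicOpen r) (x₀ * a)).1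
      (by rw [map_mul, ← hz', mul_right_comm, hz, zero_mul])
    have h0 := hxa ((c : Γ(Y, U₂.1)) * x₀) (by rw [mul_assoc]; exact hc)
    refine (IsLocalization.map_units _ m).mul_left_eq_zero.1 ?_
    rw [hz', IsLocalization.map_eq_zero_iff (Submonoid.powers r)]
    exact ⟨⟨r * c, mul_mem (Submonoid.mem_powers r) c.2⟩, by rw [mul_assoc]; exact h0⟩
  · rw [← I.map_ideal_basicOpen U₂ r]
    refine le_antisymm (Ideal.map_le_iff_le_comap.2 fun b hb => ?_) ?_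
    · obtain ⟨c, hc⟩ := Ideal.mem_span_singleton'.1 (hra b hb)
      rw [Ideal.mem_comap, Ideal.mem_span_singleton]
      refine ((IsLocalization.Away.algebraMap_isUnit (S := Γ(Y, Y.basicOpen r)) r).dvd_mul_left).1 ?_
      rw [show (Y.presheaf.map (homOfLE (Y.basicOpen_le r)).op).hom b =
        algebraMap Γ(Y, U₂.1) Γ(Y, Y.basicOpen r) b from rfl, ← map_mul, ← hc, map_mul]
      exact dvd_mul_left _ _
    · rw [Ideal.span_le, Set.singleton_subset_iff]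
      exact Ideal.mem_map_of_mem _ haI

end Groth.Agent.H9CartDesc
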